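import Groth.Agent.Lib.Euler.InvHom
import Groth.Agent.Lib.Cube.Seesaw
import Groth.Agent.Lib.InvExt.Transfer

/-!
# Invertible modules with a section are trivial when a power is, over a field of global functions
-/

universe u

open CategoryTheory CategoryTheory.Limits AlgebraicGeometry TopologicalSpace Opposite
open GrothLib GrothLib.InvExt

namespace GrothLib.InvTriv26

variable {X : Scheme.{u}}

theorem smul_one_app {N : X.Modules} (φ : Coh.structureModule X ⟶ N) (T : X.Opens) (m : Γ(X, T)) :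
    φ.app T m = m • mres N (le_top : T ≤ ⊤) (φ.app ⊤ (1 : Γ(X, ⊤))) := by
  rw [mres_app φ le_top, ← Scheme.Modules.Hom.app_smul]
  obtain ⟨c, hc⟩ := (isGen_one (X := X) ⊤).exists_smul_eq (le_top : T ≤ ⊤) (m : Γ(Coh.structureModule X, T))
  congr 1
  show m = m * (X.presheaf.map (homOfLE (le_top : T ≤ ⊤)).op (1 : Γ(X, ⊤)))
  rw [map_one, mul_one]

theorem isIso_of_app_bijective {M N : X.Modules} (f : M ⟶ N) (h : ∀ T, Function.Bijective (f.app T)) :
    IsIso f :=
  Scheme.Modules.Hom.isIso_iff_isIso_app.mpr fun T => (ConcreteCategory.isIso_iff_bijective _).mpr (h T)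

theorem isIso_cosection [IsIntegral X] (hfield : IsField Γ(X, ⊤)) {L : X.Modules}
    (hL : PicF.IsInvertible L) {s : Coh.structureModule X ⟶ L} (hs : s ≠ 0)
    {t : L ⟶ Coh.structureModule X} (ht : t ≠ 0) : IsIso t := by
  have hi := Euler.app_injective_of_ne_zero hL Euler.isInvertible_structure ht
  have hsi := Euler.app_injective_of_ne_zero Euler.isInvertible_structure hL hs
  let a : Γ(X, ⊤) := t.app ⊤ (s.app ⊤ (1 : Γ(X, ⊤)))
  have h1 : (1 : Γ(X, ⊤)) ≠ 0 := one_ne_zero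
  have ha : a ≠ 0 := fun h0 => h1 (hsi ⊤ ((hi ⊤ (h0.trans (map_zero _).symm)).trans (map_zero _).symm))
  letI := hfield.toField
  have hu : IsUnit a := (isUnit_iff_ne_zero.2 ha)
  refine isIso_of_app_bijective t fun T => ⟨hi T, fun m => ?_⟩
  obtain ⟨v, hv⟩ := (hu.map (X.presheaf.map (homOfLE (le_top : T ≤ ⊤)).op).hom).exists_left_inv
  refine ⟨s.app T (((show Γ(X, T) from m) * v : Γ(X, T))), ?_⟩
  have h2 := smul_one_app (s ≫ t) T ((show Γ(X, T) from m) * v)
  refine h2.trans ?_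
  show (show Γ(X, T) from m) * v * _ = m
  rw [mul_assoc]
  erw [hv, mul_one]

theorem ne_zero_of_iso [IsIntegral X] {L : X.Modules} (e : Coh.structureModule X ≅ L) :
    e.hom ≠ 0 ∧ e.inv ≠ 0 := by
  have h : (𝟙 (Coh.structureModule X) : _ ⟶ _) ≠ 0 := fun h0 =>
    (one_ne_zero : (1 : Γ(X, ⊤)) ≠ 0)
      (congrArg (fun φ : Coh.structureModule X ⟶ Coh.structureModule X => φ.app ⊤ (1 : Γ(X, ⊤))) h0)
  exact ⟨fun h0 => h (by rw [← e.hom_inv_id, h0, Limits.zero_comp]),
    fun h0 => h (by rw [← e.hom_inv_id, h0, Limits.comp_zero])⟩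

theorem triv_of_section_of_tensorPow [IsIntegral X] (hfield : IsField Γ(X, ⊤)) {L : X.Modules}
    (hL : PicF.IsInvertible L) {s : Coh.structureModule X ⟶ L} (hs : s ≠ 0) {d : ℕ} (hd : 0 < d)
    (htriv : Nonempty (CohB1.tensorPow L d ≅ Coh.structureModule X)) :
    Nonempty (L ≅ Coh.structureModule X) := by
  obtain ⟨c, ⟨e⟩⟩ := Ample.exists_cocycle hL
  have hpow : Cube.cls c ^ d = 1 := by
    rw [← Cube.clsMod_eq hL e, ← Cube.clsMod_tensorPow hL d, Cube.clsMod_eq_one_iff]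
    exact htriv
  obtain ⟨a, ha⟩ := c.exists_hom_eq (s ≫ e.hom)
  have ha0 : a ≠ 0 := by
    rintro rfl
    apply hs
    have h0 : c.hom (0 : c.sect 1 ⊤) = 0 := by
      refine Scheme.Modules.hom_ext _ _ fun T => AddCommGrpCat.ext fun m => ?_
      show (c.hom 0).app T m = 0
      rw [smul_one_app]
      have hz : (c.hom (0 : c.sect 1 ⊤)).app ⊤ (1 : Γ(X, ⊤)) = 0 := by
        refine (c.hom_app_one (0 : c.sect 1 ⊤) ⊤).trans ?_
        exact c.sect_ext fun i => map_zero _
      rw [hz, mres, map_zero, smul_zero]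
    rw [h0] at ha
    rw [← cancel_mono e.hom, ← ha, Limits.zero_comp]
  have hh : ∀ n : ℕ, Cube.HasSec (Cube.cls c ^ (n + 1)) (c.locus a) := by
    intro n
    induction n with
    | zero => rw [zero_add, pow_one]; exact ⟨c, a, rfl, rfl⟩
    | succ n ih =>
      have := Cube.hasSec_mul ih (show Cube.HasSec (Cube.cls c) (c.locus a) from ⟨c, a, rfl, rfl⟩)
      rwa [inf_idem, ← pow_succ] at this
  obtain ⟨n, rfl⟩ : ∃ n, d = n + 1 := ⟨d - 1, by omega⟩
  have h1 := hh n
  rw [hpow] at h1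
  rcases Cube.eq_bot_or_top_of_isField hfield h1 with hU | hU
  · exact absurd hU (Cube.locus_ne_bot c ha0)
  · rw [← Cube.clsMod_eq_one_iff hL, Cube.clsMod_eq hL e, Cube.cls_eq_one_iff]
    exact ⟨a, hU⟩

end GrothLib.InvTriv26
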